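import Groth.Agent.ResProp.EF.K412.Defs
import Groth.Agent.ResProp.EF.Arch

/-!
# G1: the ring level output `RCover` (helper412), one step before `Arch.CoverDatum`

`RCover k G x H` : `D` a finite type `A`-algebra, `C → D` faithfully flat, the arrow `ph : B → D ⊗_C D` of the two projections
(`Spec D ×_(Spec C) Spec D = Spec D ×_(Spec A) Spec B`), a coaction of `H` on `D` over `A`, stable on `C`, commuting with the arrows,
the `FinDatum`, a point over `x`.  Node `Z2`: `RCover` over the groupoid of a groupoid ring gives a `CoverDatum`.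
-/

set_option autoImplicit false
set_option linter.dupNamespace false
universe u

open CategoryTheory Opposite TensorProduct
open Groth.Agent.Grpsch.AffGrpd EF56 K784.BC K784.PM K741.RP

noncomputable section

namespace Groth.Agent.ResProp.EF.K412

/-- the ring level output of G1 -/
structure RCover (k : Type u) [CommRing k] {A B : Type u} [CommRing A] [CommRing B] [Algebra k A]
    (G : RGrpd A B) (x : PrimeSpectrum A) (H : Grp.Gp k) where
  D : Type u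
  [crD : CommRing D]
  [algD : Algebra A D]
  [algkD : Algebra k D]
  [twD : IsScalarTower k A D]
  ft : Algebra.FiniteType A D
  C : Type u
  [crC : CommRing C]
  [algC : Algebra C D]
  [algkC : Algebra k C]
  [twC : IsScalarTower k C D]
  ff : Module.FaithfullyFlat C D
  /-- the arrow from the first to the second point of `Spec D ×_(Spec C) Spec D` -/
  ph : B →+* D ⊗[C] D
  ph_s : ∀ a, ph (G.s a) = algebraMap A D a ⊗ₜ 1
  ph_t : ∀ a, ph (G.t a) = 1 ⊗ₜ algebraMap A D a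
  /-- `Spec D ×_(Spec C) Spec D = Spec D ×_(Spec A) Spec B` -/
  po : ∀ {T : Type u} [CommRing T] (d : D →+* T) (γ : B →+* T), γ.comp G.s = d.comp (algebraMap A D) →
    ∃! r : D ⊗[C] D →+* T, (∀ z, r (z ⊗ₜ 1) = d z) ∧ r.comp ph = γ
  coc : ∀ {T : Type u} [CommRing T] (r01 r12 r02 : D ⊗[C] D →+* T), (∀ z, r01 (1 ⊗ₜ z) = r12 (z ⊗ₜ 1)) →
    (∀ z, r02 (z ⊗ₜ 1) = r01 (z ⊗ₜ 1)) → (∀ z, r02 (1 ⊗ₜ z) = r12 (1 ⊗ₜ z)) →
    ∀ h : (r12.comp ph).comp G.s = (r01.comp ph).comp G.t, G.comp (r12.comp ph) (r01.comp ph) h = r02.comp ph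
  ρ : K83.CoAlg k H.O D
  ρ_A : ∀ a : A, ρ.ρ (algebraMap A D a) = algebraMap A D a ⊗ₜ 1
  ρC : C →ₐ[k] C ⊗[k] H.O
  ρC_eq : ∀ c, ρ.ρ (algebraMap C D c) = (IsScalarTower.toAlgHom k C D).toLinearMap.rTensor H.O (ρC c)
  /-- the arrow does not change if both points are moved by the same element of `H` -/
  equi : ∀ {T : Type u} [CommRing T] [Algebra k T] (r r' : D ⊗[C] D →+* T) (r1 r2 : D →ₐ[k] T) (h : H.O →ₐ[k] T),
    (∀ z, r (z ⊗ₜ 1) = r1 z) → (∀ z, r (1 ⊗ₜ z) = r2 z) →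
    (∀ z, r' (z ⊗ₜ 1) = Algebra.TensorProduct.productMap r1 h (ρ.ρ z)) →
    (∀ z, r' (1 ⊗ₜ z) = Algebra.TensorProduct.productMap r2 h (ρ.ρ z)) → r'.comp ph = r.comp ph
  cR : K83.CoAlg A (A ⊗[k] H.O) D
  cR_eq : ∀ z : D, Algebra.TensorProduct.cancelBaseChange k A A D H.O (cR.ρ z) = ρ.ρ z
  fin : K83.FinDatum A (A ⊗[k] H.O) D cR
  pt : ∃ y : PrimeSpectrum D, PrimeSpectrum.comap (algebraMap A D) y = x

attribute [instance] RCover.crD RCover.algD RCover.algkD RCover.twD RCover.crC RCover.algC RCover.algkC RCover.twC RCover.ff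

section NF

/-- the ring level groupoid `G` is the one of the groupoid ring `A` (node R1) -/
structure IsGrpd (A : NFᵒᵖ ⥤ CommRingCat.{u}) (G : RGrpd (A.obj (op ⟨0⟩)) (A.obj (op ⟨1⟩))) : Prop where
  s : G.s = rg A (pr ⟨0⟩)
  t : G.t = rg A (lst ⟨0⟩)
  /-- for `χ : A⟨2⟩ → T` with edges `01`, `12`, `02` -/
  comp : ∀ {T : Type u} [CommRing T] (χ : A.obj (op ⟨2⟩) →+* T)
    (h : (χ.comp (rg A (show (⟨2⟩ : NF) ⟶ ⟨1⟩ from (![1, 2] : Fin 2 → Fin 3)))).comp G.s =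
      (χ.comp (rg A (show (⟨2⟩ : NF) ⟶ ⟨1⟩ from (![0, 1] : Fin 2 → Fin 3)))).comp G.t),
    G.comp (χ.comp (rg A (show (⟨2⟩ : NF) ⟶ ⟨1⟩ from (![1, 2] : Fin 2 → Fin 3))))
      (χ.comp (rg A (show (⟨2⟩ : NF) ⟶ ⟨1⟩ from (![0, 1] : Fin 2 → Fin 3)))) h =
      χ.comp (rg A (show (⟨2⟩ : NF) ⟶ ⟨1⟩ from (![0, 2] : Fin 2 → Fin 3)))

/-- **Node R1**: every groupoid ring has its ring level groupoid -/
def R1 : Prop := ∀ A : NFᵒᵖ ⥤ CommRingCat.{u}, GR A → ∃ G : RGrpd (A.obj (op ⟨0⟩)) (A.obj (op ⟨1⟩)), IsGrpd A G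

/-- **Node Z2**: from the ring level to `Arch.CoverDatum` -/
def Z2 : Prop := ∀ (p : ℕ) (k : Type u) [CommRing k] [Grp.IsLb p k] (A : NFᵒᵖ ⥤ CommRingCat.{u}) [Arch.GRF k A]
  (x : PrimeSpectrum (A.obj (op ⟨0⟩))) (H : Grp.Gp k) (_ : Grp.Kill H)
  (G : RGrpd (A.obj (op ⟨0⟩)) (A.obj (op ⟨1⟩))) (_ : IsGrpd A G), Nonempty (RCover k G x H) →
  Nonempty (Arch.CoverDatum k A x)

end NF

end Groth.Agent.ResProp.EF.K412
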