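import Groth.Agent.ResProp.EF.K412.Mid
import Groth.Agent.ResProp.EF.K62.Rho
import Groth.Agent.ResProp.EF.K58.Coact

/-!
# G1: the exact form of `M2` and `M3` (helper412)

`MidData` with its `Lb`-algebra structures, the coactions (`CoMid`) and the comodule of functions (`PhiDat`).
-/

set_option autoImplicit false
universe u

open Groth.Agent.Grpsch.AffGrpd TensorProduct

noncomputable section

namespace Groth.Agent.ResProp.EF.K412

variable {A B : Type u} [CommRing A] [CommRing B] {Lb : Type u} [CommRing Lb] [Algebra Lb A] {G : RGrpd A B}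
  {D : Gen Lb G} {κ : Type u} [Field κ] {x : A →+* κ} {F : FrRing D x}

namespace MidData

variable (M : MidData F)

/-- `A → D0` -/
def p : A →+* M.D0 := (algebraMap F.R M.D0).comp F.P.a

theorem σ_p : M.σ.comp M.p = M.g.comp G.s := M.hg.symm

theorem τ_p : M.τ.comp M.p = M.g.comp G.t := M.tr.tgt.symm

instance algkD0 : Algebra Lb M.D0 := (M.p.comp (algebraMap Lb A)).toAlgebra

theorem algebraMap_kD0 (r : Lb) : algebraMap Lb M.D0 r = M.p (algebraMap Lb A r) := rfl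

instance : IsScalarTower Lb F.R M.D0 := IsScalarTower.of_algebraMap_eq' rfl

instance algkD1 : Algebra Lb M.D1 := (M.σ.comp (algebraMap Lb M.D0)).toAlgebra

theorem algebraMap_kD1 (r : Lb) : algebraMap Lb M.D1 r = M.σ (algebraMap Lb M.D0 r) := rfl

theorem τ_k (r : Lb) : M.τ (algebraMap Lb M.D0 r) = algebraMap Lb M.D1 r := by
  rw [algebraMap_kD1, algebraMap_kD0]
  have h1 := RingHom.congr_fun M.σ_p (algebraMap Lb A r)
  have h2 := RingHom.congr_fun M.τ_p (algebraMap Lb A r)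
  refine h2.trans (Eq.trans ?_ h1.symm)
  exact congrArg M.g (D.st r).symm

/-- `Lb → B0` -/
def kB0 : Lb →+* M.B0 where
  toFun r := ((M.inv (algebraMap Lb M.D0 r)).1 (M.τ_k r).symm).choose
  map_one' := M.inj ((((M.inv (algebraMap Lb M.D0 1)).1 (M.τ_k 1).symm).choose_spec).trans (by simp))
  map_zero' := M.inj ((((M.inv (algebraMap Lb M.D0 0)).1 (M.τ_k 0).symm).choose_spec).trans (by simp))
  map_mul' r s := M.inj ((((M.inv (algebraMap Lb M.D0 (r * s))).1 (M.τ_k (r * s)).symm).choose_spec).trans (by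
    rw [map_mul, map_mul, ((M.inv (algebraMap Lb M.D0 r)).1 (M.τ_k r).symm).choose_spec,
      ((M.inv (algebraMap Lb M.D0 s)).1 (M.τ_k s).symm).choose_spec]))
  map_add' r s := M.inj ((((M.inv (algebraMap Lb M.D0 (r + s))).1 (M.τ_k (r + s)).symm).choose_spec).trans (by
    rw [map_add, map_add, ((M.inv (algebraMap Lb M.D0 r)).1 (M.τ_k r).symm).choose_spec,
      ((M.inv (algebraMap Lb M.D0 s)).1 (M.τ_k s).symm).choose_spec]))

theorem kB0_spec (r : Lb) : algebraMap M.B0 M.D0 (M.kB0 r) = algebraMap Lb M.D0 r :=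
  ((M.inv (algebraMap Lb M.D0 r)).1 (M.τ_k r).symm).choose_spec

instance algkB0 : Algebra Lb M.B0 := M.kB0.toAlgebra

instance : IsScalarTower Lb M.B0 M.D0 := IsScalarTower.of_algebraMap_eq' (RingHom.ext fun r => (M.kB0_spec r).symm)

instance : IsScalarTower Lb M.B0 M.D1 := IsScalarTower.of_algebraMap_eq' (RingHom.ext fun r => by
  rw [M.algB1_eq, RingHom.comp_apply, RingHom.comp_apply, algebraMap_kD1]
  exact congrArg M.σ (M.kB0_spec r).symm)

/-- `σ` over `Lb` -/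
def σk : M.D0 →ₐ[Lb] M.D1 := { M.σ with commutes' := fun _ => rfl }

/-- `τ` over `Lb` -/
def τk : M.D0 →ₐ[Lb] M.D1 := { M.τ with commutes' := M.τ_k }

theorem τ_B (b : M.B0) : M.τ (algebraMap M.B0 M.D0 b) = M.σ (algebraMap M.B0 M.D0 b) :=
  ((M.inv _).2 ⟨b, rfl⟩).symm

end MidData

section Co

variable {O : Type u} [CommRing O] [HopfAlgebra Lb O] {X : Matrix (Fin F.r1) (Fin F.r1) O}
  {Xm : Matrix (Fin F.rm) (Fin F.rm) O}

/-- **the coactions** on `D0`, `D1`, `B0` (output of node M2) -/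
structure CoMid (M : MidData F) (hX : K62.IsMulMat Lb X) (hXm : K62.IsMulMat Lb Xm) : Type u where
  c0 : K83.CoAlg Lb O M.D0
  c0_R : ∀ z : F.R, c0.ρ (algebraMap F.R M.D0 z) =
    Algebra.TensorProduct.map (IsScalarTower.toAlgHom Lb F.R M.D0) (AlgHom.id Lb O) (K62.rho F hX hXm z)
  c1 : K83.CoAlg Lb O M.D1
  c1_σ : ∀ z : M.D0, c1.ρ (M.σ z) = Algebra.TensorProduct.map M.σk (AlgHom.id Lb O) (c0.ρ z)
  c1_τ : ∀ z : M.D0, c1.ρ (M.τ z) = Algebra.TensorProduct.map M.τk (AlgHom.id Lb O) (c0.ρ z)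
  c1_g : ∀ b : B, c1.ρ (M.g b) = M.g b ⊗ₜ 1
  cB : K83.CoAlg Lb O M.B0
  cB_D : ∀ b : M.B0, c0.ρ (algebraMap M.B0 M.D0 b) =
    Algebra.TensorProduct.map (IsScalarTower.toAlgHom Lb M.B0 M.D0) (AlgHom.id Lb O) (cB.ρ b)

/-- **the comodule of functions on `Z`** (output of node M3) -/
structure PhiDat (M : MidData F) (cB : K83.CoAlg Lb O M.B0) : Type u where
  N : ℕ
  φ : Fin (N + 1) → M.B0
  mem : ∀ j, φ j ∈ M.I
  rad : M.I ≤ (Ideal.span (Set.range φ)).radical
  R : Matrix (Fin (N + 1)) (Fin (N + 1)) O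
  co : K58.IsMatCo Lb R
  rho : ∀ j, cB.ρ (φ j) = ∑ i, φ i ⊗ₜ[Lb] R i j

end Co

/-- **Node M12** : `MidData` with the coactions, for one group -/
def M12 : Prop := ∀ {Lb A B : Type u} [CommRing Lb] [CommRing A] [CommRing B] [Algebra Lb A] {G : RGrpd A B} {D : Gen Lb G}
  {κ : Type u} [Field κ] {x : A →+* κ} (F : FrRing D x), IsNoetherianRing Lb → Algebra.FiniteType Lb A → G.s.Flat →
  G.s.FiniteType → ∀ {O : Type u} [CommRing O] [HopfAlgebra Lb O] [Module.Flat Lb O]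
  {X : Matrix (Fin F.r1) (Fin F.r1) O} {Xm : Matrix (Fin F.rm) (Fin F.rm) O} (hX : K62.IsMulMat Lb X)
  (hXm : K62.IsMulMat Lb Xm), ∃ M : MidData F, Nonempty (CoMid M hX hXm)

/-- **Node M3** -/
def M3 : Prop := ∀ {Lb A B : Type u} [CommRing Lb] [CommRing A] [CommRing B] [Algebra Lb A] {G : RGrpd A B} {D : Gen Lb G}
  {κ : Type u} [Field κ] {x : A →+* κ} {F : FrRing D x} (M : MidData F), IsNoetherianRing Lb →
  ∀ {O : Type u} [CommRing O] [HopfAlgebra Lb O] [Module.Free Lb O]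
  {X : Matrix (Fin F.r1) (Fin F.r1) O} {Xm : Matrix (Fin F.rm) (Fin F.rm) O} (hX : K62.IsMulMat Lb X)
  (hXm : K62.IsMulMat Lb Xm) (c : CoMid M hX hXm), Nonempty (PhiDat M c.cB)

end Groth.Agent.ResProp.EF.K412
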