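import Groth.Agent.Grpsch.AffGrpd
import Mathlib.LinearAlgebra.Matrix.NonsingularInverse
import Mathlib.RingTheory.RingHom.Flat
import Mathlib.RingTheory.RingHom.FiniteType

/-!
# G1 (cover datum), team A: definitions and nodes (helper412)

Groupoid ring = `RGrpd A B` (`Groth.Agent.Grpsch.AffGrpd`): arrows over `T` = ring maps `γ : B →+* T`, source `γ.comp G.s`,
target `γ.comp G.t`, `G.comp α β` = `α` after `β`, `G.i` = inverse, `G.e` = identities.  `Lb` = base ring.

* `Gen Lb G` (N1): `1 = c i0, c_j` generate `B` over `A` (through `s`), span a subcomodule with matrix `g`, `B` is presented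
  by the relations of degree `m`, `t(x_l)` and `i(g_ij)` are in the span of the monomials of degree `m`.
* `FrPt` / `IsFr` : framed points, `ThetaEq`, node `N4` : theta is a monomorphism modulo the groupoid.
* `FrRing` (N2): the coordinate ring `D''` of the closure of one point in the frames, with the actions of arrows and of
  `GL_r1 x GL_rm`.
-/

set_option autoImplicit false
universe u

open Groth.Agent.Grpsch.AffGrpd

namespace Groth.Agent.ResProp.EF.K412

variable {A B : Type u} [CommRing A] [CommRing B]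

/-- monomials of degree `m` in the `c j` -/
def mon {R : Type u} [CommRing R] {n m : ℕ} (c : Fin n → R) (J : Fin m → Fin n) : R := ∏ k, c (J k)

/-- **N1 output**: the choice datum. -/
structure Gen (Lb : Type u) [CommRing Lb] [Algebra Lb A] (G : RGrpd A B) where
  n : ℕ
  m : ℕ
  c : Fin n → B
  i0 : Fin n
  c_i0 : c i0 = 1
  /-- the comodule matrix: `c_j(α β) = ∑ c_i(α) g_ij(β)` -/
  g : Matrix (Fin n) (Fin n) B
  comp_c : ∀ {T : Type u} [CommRing T] (α β : B →+* T) (h : α.comp G.s = β.comp G.t) (j : Fin n),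
    G.comp α β h (c j) = ∑ i, α (c i) * β (g i j)
  /-- the `c j` generate `B` over `A` (through `s`) -/
  gen : ∀ {T : Type u} [CommRing T] (F F' : B →+* T), F.comp G.s = F'.comp G.s → (∀ j, F (c j) = F' (c j)) → F = F'
  /-- presentation by relations of degree `m` (786's PresUP) -/
  pres : ∀ {T : Type u} [CommRing T] (a : A →+* T) (v : Fin n → T), v i0 = 1 →
    (∀ p : (Fin m → Fin n) → A, ∑ J, G.s (p J) * mon c J = 0 → ∑ J, a (p J) * mon v J = 0) →
    ∃ F : B →+* T, F.comp G.s = a ∧ ∀ j, F (c j) = v j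
  q : ℕ
  x : Fin q → A
  x_gen : Algebra.adjoin Lb (Set.range x) = ⊤
  /-- `t(x_l)` is in the span of the monomials of degree `m` -/
  tx : Fin q → (Fin m → Fin n) → A
  t_x : ∀ l, G.t (x l) = ∑ J, G.s (tx l J) * mon c J
  /-- `i(g_ij)` is in the span of the monomials of degree `m` -/
  ig : Fin n → Fin n → (Fin m → Fin n) → A
  i_g : ∀ i j, G.i (g i j) = ∑ J, G.s (ig i j J) * mon c J
  /-- `s` and `t` agree on `Lb` -/
  st : ∀ l : Lb, G.s (algebraMap Lb A l) = G.t (algebraMap Lb A l)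

/-- **Node N1** -/
def N1 : Prop := ∀ (Lb A B : Type u) [CommRing Lb] [CommRing A] [CommRing B] [Algebra Lb A] (G : RGrpd A B),
  IsNoetherianRing A → Algebra.FiniteType Lb A → G.s.Flat → G.s.FiniteType →
  (∀ l : Lb, G.s (algebraMap Lb A l) = G.t (algebraMap Lb A l)) → Nonempty (Gen Lb G)

section Points

variable {Lb : Type u} [CommRing Lb] [Algebra Lb A] {G : RGrpd A B} (D : Gen Lb G) (r1 rm : ℕ)

/-- matrix data of a framed point over `K` -/
structure FrPt (K : Type u) [CommRing K] where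
  a : A →+* K
  M : Matrix (Fin r1) (Fin D.n) K
  Mm : Matrix (Fin rm) (Fin D.m → Fin D.n) K
  mu : Matrix (Fin rm) (Fin D.m → Fin r1) K

variable {D r1 rm}

/-- image of a framed point under a ring map -/
def FrPt.map {K K' : Type u} [CommRing K] [CommRing K'] (f : K →+* K') (P : FrPt D r1 rm K) : FrPt D r1 rm K' where
  a := f.comp P.a
  M := P.M.map f
  Mm := P.Mm.map f
  mu := P.mu.map f

/-- the closed conditions (they hold in the coordinate ring) -/
structure IsFrC {K : Type u} [CommRing K] (P : FrPt D r1 rm K) : Prop where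
  hmu : ∀ b J, P.Mm b J = ∑ Q : Fin D.m → Fin r1, P.mu b Q * ∏ k, P.M (Q k) (J k)
  rel1 : ∀ u : Fin D.n → A, ∑ j, G.s (u j) * D.c j = 0 → ∀ b, ∑ j, P.M b j * P.a (u j) = 0
  relm : ∀ u : (Fin D.m → Fin D.n) → A, ∑ J, G.s (u J) * mon D.c J = 0 → ∀ b, ∑ J, P.Mm b J * P.a (u J) = 0

/-- framed points: both matrices surjective (right invertible), and the value at the identity is well defined -/
structure IsFr {K : Type u} [CommRing K] (P : FrPt D r1 rm K) : Prop extends IsFrC P where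
  sur1 : ∃ S : Matrix (Fin D.n) (Fin r1) K, P.M * S = 1
  surm : ∃ S : Matrix (Fin D.m → Fin D.n) (Fin rm) K, P.Mm * S = 1
  ep1 : ∃ w : Fin r1 → K, ∀ j, ∑ b, w b * P.M b j = P.a (G.e (D.c j))
  epm : ∃ w : Fin rm → K, ∀ J, ∑ b, w b * P.Mm b J = P.a (G.e (mon D.c J))

/-- equality of theta -/
structure ThetaEq {K : Type u} [CommRing K] (P P' : FrPt D r1 rm K) : Prop where
  th0 : ∀ b, P.M b D.i0 = P'.M b D.i0
  th1 : P.mu = P'.mu
  th2 : ∀ l b, ∑ J, P.Mm b J * P.a (D.tx l J) = ∑ J, P'.Mm b J * P'.a (D.tx l J)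
  th3 : ∀ k b b', ∑ i, P.M b i * ∑ J, P.Mm b' J * P.a (D.ig i k J) = ∑ i, P'.M b i * ∑ J, P'.Mm b' J * P'.a (D.ig i k J)
  thL : ∀ l : Lb, P.a (algebraMap Lb A l) = P'.a (algebraMap Lb A l)

/-- `P' = γ • P` -/
structure IsTrans {K : Type u} [CommRing K] (γ : B →+* K) (P P' : FrPt D r1 rm K) : Prop where
  src : γ.comp G.s = P.a
  tgt : γ.comp G.t = P'.a
  hM : ∀ b j, P'.M b j = ∑ i, P.M b i * γ (G.i (D.g i j))
  hMm : ∀ b J, P'.Mm b J = ∑ I : Fin D.m → Fin D.n, P.Mm b I * ∏ k, γ (G.i (D.g (I k) (J k)))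
  hmu : P'.mu = P.mu

/-- `P' = (X, Xm) • P` -/
structure IsGTrans {K : Type u} [CommRing K] (X : Matrix (Fin r1) (Fin r1) K) (Xm : Matrix (Fin rm) (Fin rm) K)
    (P P' : FrPt D r1 rm K) : Prop where
  ha : P'.a = P.a
  hM : P'.M = X * P.M
  hMm : P'.Mm = Xm * P.Mm
  hmu : ∀ b (J : Fin D.m → Fin r1), ∑ Q : Fin D.m → Fin r1, P'.mu b Q * ∏ k, X (Q k) (J k) = ∑ d, Xm b d * P.mu d J

variable (D r1 rm)

/-- **Node N4**: theta is a monomorphism modulo the groupoid (flatness is used for the uniqueness only) -/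
def N4 : Prop := G.s.Flat → ∀ {K : Type u} [CommRing K] (P P' : FrPt D r1 rm K), IsFr P → IsFr P' → ThetaEq P P' →
  ∃! γ : B →+* K, IsTrans γ P P'

/-- **Node N4'**: surjectivity of the matrices is preserved by arrows -/
def N4' : Prop := G.s.Flat → ∀ {K : Type u} [CommRing K] (P P' : FrPt D r1 rm K) (γ : B →+* K), IsFr P → IsTrans γ P P' →
  (∃ S : Matrix (Fin D.n) (Fin r1) K, P'.M * S = 1) ∧ (∃ S : Matrix (Fin D.m → Fin D.n) (Fin rm) K, P'.Mm * S = 1)

end Points

section Ring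

variable {Lb : Type u} [CommRing Lb] [Algebra Lb A] {G : RGrpd A B} (D : Gen Lb G)

/-- **N2 output**: the coordinate ring of the frames on the closure of the point `x`. -/
structure FrRing {k : Type u} [Field k] (x : A →+* k) where
  r1 : ℕ
  rm : ℕ
  R : Type u
  [cr : CommRing R]
  P : FrPt D r1 rm R
  /-- `R` is generated over `A` by the entries -/
  gen : Subring.closure (Set.range P.a ∪ Set.range (fun z : Fin r1 × Fin D.n => P.M z.1 z.2) ∪
    Set.range (fun z : Fin rm × (Fin D.m → Fin D.n) => P.Mm z.1 z.2) ∪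
    Set.range (fun z : Fin rm × (Fin D.m → Fin r1) => P.mu z.1 z.2)) = ⊤
  closed : IsFrC P
  /-- on points with surjective matrices, the values at the identity exist -/
  ep : ∀ {T : Type u} [CommRing T] (ψ : R →+* T), (∃ S : Matrix (Fin D.n) (Fin r1) T, (P.map ψ).M * S = 1) →
    (∃ S : Matrix (Fin D.m → Fin D.n) (Fin rm) T, (P.map ψ).Mm * S = 1) → IsFr (P.map ψ)
  /-- arrows act, theta is invariant -/
  act : ∀ {T : Type u} [CommRing T] (ψ : R →+* T) (γ : B →+* T), γ.comp G.s = ψ.comp P.a →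
    ∃ ψ' : R →+* T, IsTrans γ (P.map ψ) (P.map ψ') ∧ ThetaEq (P.map ψ) (P.map ψ')
  /-- `GL_r1 x GL_rm` acts -/
  gact : ∀ {T : Type u} [CommRing T] (ψ : R →+* T) (X : Matrix (Fin r1) (Fin r1) T) (Xm : Matrix (Fin rm) (Fin rm) T),
    IsUnit X → IsUnit Xm → ∃ ψ' : R →+* T, IsGTrans X Xm (P.map ψ) (P.map ψ')
  /-- the point over `x` -/
  pt : ∃ ψ : R →+* k, ψ.comp P.a = x ∧ (∃ S : Matrix (Fin D.n) (Fin r1) k, (P.map ψ).M * S = 1) ∧
    (∃ S : Matrix (Fin D.m → Fin D.n) (Fin rm) k, (P.map ψ).Mm * S = 1)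

attribute [instance] FrRing.cr

/-- **Node N2** -/
def N2 : Prop := G.s.Flat → ∀ {k : Type u} [Field k] (x : A →+* k), Nonempty (FrRing D x)

end Ring

end Groth.Agent.ResProp.EF.K412
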