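import Groth.Agent.ResProp.EF.K412.Asm

/-!
# G1: the `A`-algebra structures on `D0` and on `Fr` over `D0` (helper412)
-/

set_option autoImplicit false
universe u

open Groth.Agent.Grpsch.AffGrpd TensorProduct

noncomputable section

namespace Groth.Agent.ResProp.EF.K412

variable {A B : Type u} [CommRing A] [CommRing B] {Lb : Type u} [CommRing Lb] [Algebra Lb A] {G : RGrpd A B}
  {D : Gen Lb G} {κ : Type u} [Field κ] {x : A →+* κ} {F : FrRing D x} (M : MidData F)

namespace MidData

/-- `D0` as an `A`-algebra, through `M.p` -/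
instance algAD0 : Algebra A M.D0 := M.p.toAlgebra

theorem algebraMap_AD0 : algebraMap A M.D0 = (algebraMap F.R M.D0).comp F.P.a := rfl

instance : IsScalarTower Lb A M.D0 := IsScalarTower.of_algebraMap_eq' rfl

instance : IsScalarTower A F.R M.D0 := IsScalarTower.of_algebraMap_eq' rfl

section Fr

variable {n : Type} [Fintype n] [DecidableEq n] (i₀ : n) (φ : n → M.D0)

example : Algebra A (K58.Fr i₀ φ) := inferInstance
example : Algebra Lb (K58.Fr i₀ φ) := inferInstance

instance : IsScalarTower Lb A (K58.Fr i₀ φ) := IsScalarTower.of_algebraMap_eq fun r => by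
  rw [IsScalarTower.algebraMap_apply Lb M.D0 (K58.Fr i₀ φ), IsScalarTower.algebraMap_apply A M.D0 (K58.Fr i₀ φ),
    IsScalarTower.algebraMap_apply Lb A M.D0]

theorem algebraMap_AFr : algebraMap A (K58.Fr i₀ φ) =
    (algebraMap M.D0 (K58.Fr i₀ φ)).comp ((algebraMap F.R M.D0).comp F.P.a) :=
  RingHom.ext fun a => IsScalarTower.algebraMap_apply A M.D0 (K58.Fr i₀ φ) a

end Fr

end MidData

end Groth.Agent.ResProp.EF.K412
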