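import Groth.Agent.ResProp.EF.K412.Asm
import Groth.Agent.ResProp.EF.K622.GeoDef
import Groth.Agent.ResProp.EF.K610.Rho
import Groth.Agent.ResProp.EF.K786.N4

/-!
# G1: from 622's `GeoRing` to `MidData` (helper412)
-/

set_option autoImplicit false
universe u

open Groth.Agent.Grpsch.AffGrpd TensorProduct K784.BC

noncomputable section

namespace Groth.Agent.ResProp.EF.K412

variable {A B : Type u} [CommRing A] [CommRing B] {Lb : Type u} [CommRing Lb] [Algebra Lb A] {G : RGrpd A B}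
  {D : Gen Lb G} {κ : Type u} [Field κ] {x : A →+* κ} {F : FrRing D x}

theorem geo_rad (R : K622.GeoRing F) : R.I.IsRadical := by
  rintro φ ⟨n, hn⟩
  rw [R.mem_I] at hn ⊢
  exact fun P hP h => hn P hP fun h' => h (hP.mem_of_pow_mem n h')

theorem geo_surj (R : K622.GeoRing F) (P : Ideal R.B0) (hP : P.IsPrime) (h : ¬ R.I ≤ P) :
    ∃ Q : Ideal R.D0, Q.IsPrime ∧ (∃ z, R.ι (K819.sIJ F z) ∉ Q) ∧ Q.comap (algebraMap R.B0 R.D0) = P := by
  obtain ⟨φ, hφ, hφP⟩ := Set.not_subset.1 h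
  exact (R.mem_I φ).1 hφ P hP hφP

theorem geo_cov (R : K622.GeoRing F) (P : Ideal R.D0) (hP : P.IsPrime) :
    (∃ z, R.ι (K819.sIJ F z) ∉ P) ↔ ¬ R.I ≤ P.comap (algebraMap R.B0 R.D0) := by
  constructor
  · rintro ⟨z, hz⟩ h
    obtain ⟨s, hs, hs'⟩ := R.cover
    refine hz ?_
    have h1 : (Ideal.span (algebraMap R.B0 R.D0 '' s)).radical ≤ P := by
      rw [hP.radical_le_iff, Ideal.span_le]
      rintro _ ⟨φ, hφ, rfl⟩
      exact h (hs φ hφ)
    exact h1 (hs' z)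
  · intro h
    obtain ⟨φ, hφ, hφP⟩ := Set.not_subset.1 h
    by_contra h'
    push Not at h'
    refine hφP ?_
    have h1 : (Ideal.span (Set.range fun z => R.ι (K819.sIJ F z))).radical ≤ P := by
      rw [hP.radical_le_iff, Ideal.span_le]
      rintro _ ⟨z, rfl⟩
      exact h' z
    exact h1 (R.le φ hφ)

theorem geo_fin (R : K622.GeoRing F) :
    ∃ S : Finset R.B0, (S : Set R.B0) ⊆ R.I ∧ R.I ≤ (Ideal.span (S : Set R.B0)).radical := by
  obtain ⟨s, hs, hs'⟩ := R.cover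
  refine ⟨s, fun φ hφ => hs φ hφ, fun φ hφ => ?_⟩
  rw [Ideal.radical_eq_sInf, Submodule.mem_sInf]
  rintro P ⟨hP1, hP⟩
  by_contra hφP
  obtain ⟨Q, hQ, ⟨z, hz⟩, rfl⟩ := (R.mem_I φ).1 hφ P hP hφP
  refine hz ?_
  have h1 : (Ideal.span (algebraMap R.B0 R.D0 '' s)).radical ≤ Q := by
    rw [hQ.radical_le_iff, Ideal.span_le]
    rintro _ ⟨ψ, hψ, rfl⟩
    exact hP1 (Ideal.subset_span hψ)
  exact h1 (hs' z)

/-- **`GeoRing ⇒ MidData`** -/
def toMid (R : K622.GeoRing F) : MidData F where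
  D0 := R.D0
  algD0 := R.ι.toAlgebra
  sec := R.sec
  pts ψ h := R.pts ψ ((K622.gen_iff F ψ).2 h)
  D1 := R.E0
  σ := R.a
  τ := R.b
  g := R.gE
  hg := R.po.comm.symm
  po d γ h := by
    obtain ⟨l, h1, h2⟩ := K610.po_desc R.po d γ h.symm
    exact ⟨l, ⟨h1, h2⟩, fun l' h' => K610.po_ext R.po (h'.1.trans h1.symm) (h'.2.trans h2.symm)⟩
  tr := R.tr
  B0 := R.B0
  inj := R.inj
  inv z := ⟨fun h => R.eq z h, by
    rintro ⟨y, rfl⟩
    exact (R.a.commutes y).trans (R.b.commutes y).symm⟩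
  I := R.I
  rad := geo_rad R
  fin := geo_fin R
  cov := geo_cov R
  surj P hP h := by
    obtain ⟨Q, hQ, _, h2⟩ := geo_surj R P hP h
    exact ⟨Q, hQ, h2⟩
  ff := R.ff
  algB1_eq := RingHom.ext fun y => (R.a.commutes y).symm
  σa := R.a
  τa := R.b
  σa_eq := rfl
  τa_eq := rfl
  gal := R.locBij
  ft := R.ft

/-- **M1 from 622's StmtGeo** -/
theorem m1_of (h : K622.StmtGeo.{u}) : M1.{u} := by
  intro Lb A B _ _ _ _ G D κ _ x F hN hft hfl _
  exact (h F hN hft hfl (K786.n4 D F.r1 F.rm) (K786.n4' D F.r1 F.rm)).map toMid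

end Groth.Agent.ResProp.EF.K412
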