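import Groth.Agent.ResProp.EF.K412.Defs
import Groth.Agent.ResProp.EF.K819.N4s
import Groth.Agent.ResProp.EF.K58.Loc
import Groth.Agent.ResProp.EF.K478.Sec

/-!
# G1: the middle interface `MidData` (helper412): the quotient `W' → Z = W'/Γ` in terms of rings

`D0 = Γ(W')`, `W' = ⋃ D(s_IJ) ⊆ Spec F.R`; `D1 = D0 ⊗_A B`, `σ` (source), `τ` (target); `B0 = Γ(Z)` = invariants; `I = affIdeal Z`.
Everything after `MidData` is commutative algebra.
-/

set_option autoImplicit false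
universe u

open Groth.Agent.Grpsch.AffGrpd TensorProduct

noncomputable section

namespace Groth.Agent.ResProp.EF.K412

variable {A B : Type u} [CommRing A] [CommRing B] {Lb : Type u} [CommRing Lb] [Algebra Lb A] {G : RGrpd A B}
  {D : Gen Lb G} {κ : Type u} [Field κ] {x : A →+* κ}

/-- the quotient of the frames by the groupoid, ring form -/
structure MidData (F : FrRing D x) : Type (u + 1) where
  D0 : Type u
  [crD0 : CommRing D0]
  [algD0 : Algebra F.R D0]
  /-- `D0` is the ring of functions on `W' = ⋃ D(s_IJ)` -/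
  sec : K478.IsSec (algebraMap F.R D0) (K819.sIJ F)
  /-- `D0 = Γ(W')` : points of `F.R` with `(s_IJ) = 1` extend uniquely -/
  pts : ∀ {T : Type u} [CommRing T] (ψ : F.R →+* T), Ideal.span (Set.range fun z => ψ (K819.sIJ F z)) = ⊤ →
    ∃! χ : D0 →+* T, χ.comp (algebraMap F.R D0) = ψ
  D1 : Type u
  [crD1 : CommRing D1]
  σ : D0 →+* D1
  τ : D0 →+* D1
  g : B →+* D1
  hg : g.comp G.s = (σ.comp (algebraMap F.R D0)).comp F.P.a
  /-- `D1 = D0 ⊗_A B` -/
  po : ∀ {T : Type u} [CommRing T] (d : D0 →+* T) (γ : B →+* T), γ.comp G.s = (d.comp (algebraMap F.R D0)).comp F.P.a →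
    ∃! r : D1 →+* T, r.comp σ = d ∧ r.comp g = γ
  tr : IsTrans g (F.P.map (σ.comp (algebraMap F.R D0))) (F.P.map (τ.comp (algebraMap F.R D0)))
  B0 : Type u
  [crB0 : CommRing B0]
  [algB0 : Algebra B0 D0]
  inj : Function.Injective (algebraMap B0 D0)
  /-- `B0` = invariants -/
  inv : ∀ z : D0, σ z = τ z ↔ z ∈ Set.range (algebraMap B0 D0)
  I : Ideal B0
  rad : I.IsRadical
  fin : ∃ S : Finset B0, (S : Set B0) ⊆ I ∧ I ≤ (Ideal.span (S : Set B0)).radical
  cov : ∀ P : Ideal D0, P.IsPrime → ((∃ z, algebraMap F.R D0 (K819.sIJ F z) ∉ P) ↔ ¬ I ≤ P.comap (algebraMap B0 D0))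
  surj : ∀ P : Ideal B0, P.IsPrime → ¬ I ≤ P → ∃ Q : Ideal D0, Q.IsPrime ∧ Q.comap (algebraMap B0 D0) = P
  ff : ∀ φ ∈ I, Module.FaithfullyFlat (Localization.Away φ) (Localization.Away φ ⊗[B0] D0)
  [algB1 : Algebra B0 D1]
  algB1_eq : algebraMap B0 D1 = σ.comp (algebraMap B0 D0)
  σa : D0 →ₐ[B0] D1
  τa : D0 →ₐ[B0] D1
  σa_eq : σa.toRingHom = σ
  τa_eq : τa.toRingHom = τ
  /-- `D0 ⊗_B0 D0 = D1` after inverting `φ ∈ I` -/
  gal : ∀ φ ∈ I, K58.LocBij φ (Algebra.TensorProduct.productMap σa τa).toLinearMap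
  ft : ∀ φ ∈ I, ((algebraMap D0 (Localization.Away (algebraMap B0 D0 φ))).comp
    ((algebraMap F.R D0).comp F.P.a)).FiniteType

attribute [instance] MidData.crD0 MidData.algD0 MidData.crD1 MidData.crB0 MidData.algB0 MidData.algB1

/-- **Node M1** -/
def M1 : Prop := ∀ {Lb A B : Type u} [CommRing Lb] [CommRing A] [CommRing B] [Algebra Lb A] {G : RGrpd A B} {D : Gen Lb G}
  {κ : Type u} [Field κ] {x : A →+* κ} (F : FrRing D x), IsNoetherianRing Lb → Algebra.FiniteType Lb A → G.s.Flat →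
  G.s.FiniteType → Nonempty (MidData F)

end Groth.Agent.ResProp.EF.K412
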