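import Groth.Agent.ResProp.EF.K412.AlgA
import Groth.Agent.ResProp.EF.K412.GeoMid
import Groth.Agent.ResProp.EF.K58.FrMid
import Groth.Agent.ResProp.EF.K819.Act
import Groth.Agent.ResProp.EF.K819.M2
import Groth.Agent.ResProp.EF.K840.Phi
import Groth.Agent.ResProp.EF.K601.Fin
import Groth.Agent.ResProp.EF.K601.GG2
import Groth.Agent.ResProp.EF.K601.Gk
import Groth.Agent.ResProp.EF.K420.PointMid
import Groth.Agent.ResProp.EF.K588.M6
import Groth.Agent.ResProp.EF.K128.CoverIn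
import Groth.Agent.ResProp.EF.K128.R1
import Groth.Agent.ResProp.EF.K622.Geo
import Groth.Agent.ResProp.EF.K743.N1
import Groth.Agent.ResProp.EF.K743.N2
import Groth.Agent.ResProp.EF.K807.KillHHG

/-!
# G1: the assembly `Arch.StmtCover` (helper412)
-/

set_option autoImplicit false
set_option linter.dupNamespace false
set_option linter.style.haveILetI false
universe u

open CategoryTheory Opposite TensorProduct
open Groth.Agent.Grpsch.AffGrpd EF56 K784.BC K784.PM K741.RP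

noncomputable section

namespace Groth.Agent.ResProp.EF.K412

section In

variable {k : Type u} [CommRing k] {A : NFᵒᵖ ⥤ CommRingCat.{u}} [Arch.GRF k A]
  {G : RGrpd (A.obj (op ⟨0⟩)) (A.obj (op ⟨1⟩))} (hG : IsGrpd A G) (hs : G.s.Flat) {D : Gen k G}
  {x : PrimeSpectrum (A.obj (op ⟨0⟩))} {F : FrRing D (algebraMap (A.obj (op ⟨0⟩)) x.asIdeal.ResidueField)}
  {M : MidData F} {G' : Grp.Gp k} {X : Matrix (Fin F.r1) (Fin F.r1) G'.O} {Xm : Matrix (Fin F.rm) (Fin F.rm) G'.O}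
  {hX : K62.IsMulMat k X} {hXm : K62.IsMulMat k Xm} {c : CoMid M hX hXm} (P : PhiDat M c.cB)

theorem pp_eq (a : A.obj (op ⟨0⟩)) : algebraMap (A.obj (op ⟨0⟩)) (K58.DD P) a = K58.pp P a :=
  IsScalarTower.algebraMap_apply (A.obj (op ⟨0⟩)) M.D0 (K58.DD P) a

/-- **the input of 128's last step** -/
def coverIn [IsNoetherianRing (A.obj (op ⟨0⟩))]
    (GF : K601.GK (A.obj (op ⟨0⟩)) (K62.coAlg F hX hXm) (K601.IJ F)) (hGF : GF.s = K819.sIJ F) :
    K128.CoverIn k A x (K374.HH k P.N G') where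
  D := K58.DD P
  ft := K588.m6_of_algebra M 0 P.φ P.mem rfl
  R1 := K58.RR P
  X := K819.Act.actFr M 0 P.φ hG hs
  X_p a := rfl
  σ := K58.sgA P
  τ := K58.taA P
  hσ z := rfl
  hτ z := rfl
  C := K58.CC P
  algC := (K58.cm P).toAlgebra
  ff := by
    letI : Algebra (K58.CC P) (K58.DD P) := (K58.cm P).toAlgebra
    exact RingHom.faithfullyFlat_algebraMap_iff.1 (K58.cm_ff P)
  hC := by
    have h := K58.isPO_cm P
    rw [← K58.sgA_eq P, ← K58.taA_eq P] at h
    exact h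
  ρ := K58.coD P
  ρ_A a := by
    rw [pp_eq]
    exact K58.coD_pp P a
  ρ1 := (K58.coR P).ρ
  ρ1_g b := K58.coR_gg P b
  ρ1_σ z := K58.coR_sg P z
  ρ1_τ z := K58.coR_ta P z
  cR := K541.coR (K58.coD P) (K601.linR M c rfl (K58.frdD P))
  cR_eq z := K541.coR_eq (K58.coD P) (K601.linR M c rfl (K58.frdD P)) z
  fin := K601.finD M c rfl GF hGF P.mem P.rad (K58.frdD P)
  pt := K420.Mid.pt' M 0 P.φ P.rad (MidData.algebraMap_AFr M 0 _)

end In

/-- **G1: cover data exist** -/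
theorem stmtCover : Arch.StmtCover.{u} := by
  intro p k _ _ A _ x
  haveI : IsDomain k := Grp.IsLb.dom p
  haveI : IsPrincipalIdealRing k := Grp.IsLb.pid p
  have hA : GR A := Arch.GRF.gr k
  obtain ⟨G, hG⟩ := K128.R1.r1.{u} A hA
  have hs : G.s.Flat := by
    rw [hG.s]
    exact (hA.ff ⟨0⟩).flat
  have hft : G.s.FiniteType := by
    rw [hG.s]
    exact Arch.GRF.fts k
  haveI : Algebra.FiniteType k (A.obj (op ⟨0⟩)) := Arch.GRF.ft
  haveI : IsNoetherianRing (A.obj (op ⟨0⟩)) := Algebra.FiniteType.isNoetherianRing k _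
  have hst : ∀ l : k, G.s (algebraMap k (A.obj (op ⟨0⟩)) l) = G.t (algebraMap k (A.obj (op ⟨0⟩)) l) := fun l => by
    rw [hG.s, hG.t, Arch.GRF.map_k, Arch.GRF.map_k]
  obtain ⟨D⟩ := K743.n1 k _ _ G inferInstance inferInstance hs hft hst
  obtain ⟨F⟩ := K743.n2 D hs (algebraMap (A.obj (op ⟨0⟩)) x.asIdeal.ResidueField)
  obtain ⟨M⟩ := m1_of K622.stmtGeo F inferInstance inferInstance hs hft
  obtain ⟨c⟩ := K819.M2.m2 M (K601.isMulMat_mX k F.r1 F.rm) (K601.isMulMat_mXm k F.r1 F.rm) hs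
  obtain ⟨P⟩ := K840.M3.phiDat M _ _ c
  haveI := K601.faithfullyFlat_gp (K265.GG2 k F.r1 F.rm)
  exact K128.CoverIn.datum (K807.KillHHG.stmtKillHH p k P.N F.r1 F.rm inferInstance)
    (coverIn hG hs P (K601.gk F _ _ (K601.isUnivGL k F.r1 F.rm)) (K601.gk_s F _ _ (K601.isUnivGL k F.r1 F.rm)))

end Groth.Agent.ResProp.EF.K412
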